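import Groth.Agent.H11Strict.StrictCurve
import Groth.Agent.H06QR.Regular
import Groth.Agent.H29Blow.IdealMod

/-!
# A function whose pullback vanishes to order `r` on the exceptional divisor lies in the `r`-th power
-/

set_option autoImplicit false
set_option linter.style.haveILetI false
universe u

open CategoryTheory CategoryTheory.Limits AlgebraicGeometry TopologicalSpace Opposite
open Groth.Agent.H26Blow

namespace Groth.Agent.H27BlowPow

/-- For a quasi-regular sequence multiplication by a member shifts the order exactly. -/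
theorem mem_pow_of_pow_mul_mem {A : Type u} [CommRing A] {c : ℕ} (g : Fin c → A) (hg : CAlgX.IsQuasiRegular g)
    (l : Fin c) (N r : ℕ) {a : A} (h : g l ^ N * a ∈ Ideal.span (Set.range g) ^ (N + r)) :
    a ∈ Ideal.span (Set.range g) ^ r := by
  classical
  suffices H : ∀ j, j ≤ r → a ∈ Ideal.span (Set.range g) ^ j from H r le_rfl
  intro j
  induction j with
  | zero => intro _; rw [pow_zero, Ideal.one_eq_top]; exact Submodule.mem_top
  | succ j ih =>
    intro hj
    obtain ⟨P, hP, rfl⟩ := H06QR.exists_homogeneous g (ih (by omega))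
    have hcoeff : ∀ d, P.coeff d ∈ Ideal.span (Set.range g) := fun d => by
      have h1 := hg (N + j) (MvPolynomial.monomial (Finsupp.single l N) 1 * P)
        ((MvPolynomial.isHomogeneous_monomial _ (by simp)).mul hP) (by
          rw [map_mul, MvPolynomial.eval_monomial, one_mul, Finsupp.prod_single_index (h := fun n e => g n ^ e) (pow_zero _)]
          exact Ideal.pow_le_pow_right (by omega) h) (Finsupp.single l N + d)
      rwa [MvPolynomial.coeff_monomial_mul, one_mul] at h1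
    rw [P.as_sum, map_sum, pow_succ']
    refine Submodule.sum_mem _ fun d hd => ?_
    rw [show MvPolynomial.monomial d (P.coeff d) = MvPolynomial.C (P.coeff d) * MvPolynomial.monomial d 1 by
      rw [MvPolynomial.C_mul_monomial, mul_one], map_mul, MvPolynomial.eval_C]
    refine Ideal.mul_mem_mul (hcoeff d) (H06QR.eval_mem g (MvPolynomial.isHomogeneous_monomial 1 ?_))
    rw [hP.degree_eq_sum_deg_support hd]
    exact (Finsupp.degree_apply d).symm ▸ rfl

/-- An element divisible by `a ^ r` in the chart of `a` lies in `I ^ r` after multiplication by a power of `a`. -/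
theorem exists_pow_mul_mem {A : Type u} [CommRing A] (I : Ideal A) (a : I) (r : ℕ) {s : A}
    (h : algebraMap A (Alg I a) s ∈ Ideal.span {algebraMap A (Alg I a) (a : A) ^ r}) :
    ∃ N, (a : A) ^ N * s ∈ I ^ (N + r) := by
  obtain ⟨z, hz⟩ := Ideal.mem_span_singleton'.1 h
  obtain ⟨n, q, hq, hzq⟩ := H11Strict.exists_num I a z
  have h1 : algebraMap A (Alg I a) (s * (a : A) ^ n) = algebraMap A (Alg I a) (q * (a : A) ^ r) := by
    rw [map_mul, map_mul, ← hzq, ← hz, map_pow, map_pow]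
    ring
  obtain ⟨⟨_, e, rfl⟩, he⟩ := (IsLocalization.eq_iff_exists (Submonoid.powers (a : A))
    (Localization.Away (a : A))).1 (congrArg Subtype.val h1)
  refine ⟨e + n, ?_⟩
  rw [show (a : A) ^ (e + n) * s = (a : A) ^ e * (s * (a : A) ^ n) by ring, he,
    show (a : A) ^ e * (q * (a : A) ^ r) = (a : A) ^ (e + r) * q by ring,
    show e + n + r = (e + r) + n by omega, pow_add I]
  exact Ideal.mul_mem_mul (Ideal.pow_mem_pow a.2 _) hq

theorem fromSpec_appLE_self {X : Scheme.{u}} {W : X.Opens} (hW : IsAffineOpen W)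
    (e : (⊤ : (Spec Γ(X, W)).Opens) ≤ hW.fromSpec ⁻¹ᵁ W) :
    hW.fromSpec.appLE W ⊤ e = (Scheme.ΓSpecIso Γ(X, W)).inv := by
  rw [Scheme.Hom.appLE, hW.fromSpec_app_self, Category.assoc, ← Functor.map_comp]
  erw [show ((eqToHom hW.fromSpec_preimage_self).op ≫ (homOfLE e).op) = 𝟙 _ from Subsingleton.elim _ _,
    CategoryTheory.Functor.map_id, Category.comp_id]

/-- The centre read through the affine chart. -/
theorem comap_fromSpec {X : Scheme.{u}} (𝓘 : X.IdealSheafData) {W : X.Opens} (hW : IsAffineOpen W) :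
    𝓘.comap hW.fromSpec = centre (A := Γ(X, W)) (𝓘.ideal ⟨W, hW⟩) := by
  refine Scheme.IdealSheafData.ext_of_isAffine ?_
  rw [ideal_centre_top, H29Blow.ideal_comap 𝓘 hW.fromSpec ⟨W, hW⟩ ⟨⊤, isAffineOpen_top _⟩
    hW.fromSpec_preimage_self.ge, fromSpec_appLE_self]
  rfl

theorem centre_pow {A : Type u} [CommRing A] (I : Ideal A) (r : ℕ) : centre I ^ r = centre (I ^ r) := by
  refine Scheme.IdealSheafData.ext_of_isAffine ?_
  rw [Scheme.IdealSheafData.ideal_pow, Pi.pow_apply, ideal_centre_top, ideal_centre_top, Ideal.map_pow]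

theorem centre_comap {A R : Type u} [CommRing A] [CommRing R] (I : Ideal A) (φ : A →+* R) :
    (centre I).comap (Spec.map (CommRingCat.ofHom φ)) = centre (I.map φ) := by
  refine Scheme.IdealSheafData.ext_of_isAffine ?_
  rw [ideal_centre_comap, ideal_centre_top]
  rfl

theorem centre_bot {A : Type u} [CommRing A] : centre (⊥ : Ideal A) = ⊥ := by
  refine Scheme.IdealSheafData.ext_of_isAffine ?_
  rw [ideal_centre_top, Ideal.map_bot]
  rfl

variable {X Y : Scheme.{u}} {f : Y ⟶ X} {𝓘 : X.IdealSheafData}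

theorem appLE_eq_zero_of_fac {Z T : Scheme.{u}} {l : T ⟶ Z} {a : Z ⟶ Y} {t : T ⟶ X} (hl : l ≫ a ≫ f = t)
    {W : X.Opens} (e : (⊤ : T.Opens) ≤ t ⁻¹ᵁ W) {s : Γ(X, W)} (h : a.app (f ⁻¹ᵁ W) (f.app W s) = 0) :
    t.appLE W ⊤ e s = 0 := by
  subst hl
  rw [Scheme.Hom.comp_appLE, Scheme.Hom.comp_app]
  show l.appLE _ ⊤ _ (a.app (f ⁻¹ᵁ W) (f.app W s)) = 0
  rw [h, map_zero]

theorem appLE_of_fac_fromSpec {W : X.Opens} (hW : IsAffineOpen W) {R : Type u} [CommRing R]
    (φ : Γ(X, W) →+* R) {t : Spec (CommRingCat.of R) ⟶ X}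
    (ht : t = Spec.map (CommRingCat.ofHom φ) ≫ hW.fromSpec) (e : (⊤ : (Spec (CommRingCat.of R)).Opens) ≤ t ⁻¹ᵁ W)
    (s : Γ(X, W)) : t.appLE W ⊤ e s = (Scheme.ΓSpecIso (CommRingCat.of R)).inv (φ s) := by
  subst ht
  rw [← Scheme.Hom.appLE_comp_appLE _ _ W ⊤ ⊤ hW.fromSpec_preimage_self.ge le_top, fromSpec_appLE_self]
  show ((Scheme.ΓSpecIso Γ(X, W)).inv ≫ (Spec.map (CommRingCat.ofHom φ)).appTop) s = _
  rw [← Scheme.ΓSpecIso_inv_naturality]
  rfl

/-- A test scheme on which the centre is `r`-nilpotent kills such a function. -/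
theorem eq_zero_of_test {W : X.Opens} (hW : IsAffineOpen W) (r : ℕ) {s : Γ(X, W)}
    (hs : (BlowUp.exceptional f 𝓘 ^ r).subschemeι.app (f ⁻¹ᵁ W) (f.app W s) = 0)
    {R : Type u} [CommRing R] (φ : Γ(X, W) →+* R) (hφ : (𝓘.ideal ⟨W, hW⟩).map φ ^ r = ⊥)
    {q : Spec (CommRingCat.of R) ⟶ Y} (hqf : q ≫ f = Spec.map (CommRingCat.ofHom φ) ≫ hW.fromSpec) :
    φ s = 0 := by
  have hE : (BlowUp.exceptional f 𝓘 ^ r).comap q = ⊥ := by
    rw [H11Strict.comap_pow]
    show (𝓘.comap f).comap q ^ r = ⊥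
    rw [← Scheme.IdealSheafData.comap_comp, hqf, Scheme.IdealSheafData.comap_comp, comap_fromSpec 𝓘 hW,
      centre_comap, centre_pow, hφ, centre_bot]
  have hker : (BlowUp.exceptional f 𝓘 ^ r).subschemeι.ker ≤ q.ker := by
    rw [Scheme.IdealSheafData.ker_subschemeι, ← Scheme.IdealSheafData.map_bot,
      Scheme.IdealSheafData.le_map_iff_comap_le, hE]
  have hl : IsClosedImmersion.lift (BlowUp.exceptional f 𝓘 ^ r).subschemeι q hker ≫
      (BlowUp.exceptional f 𝓘 ^ r).subschemeι ≫ f = q ≫ f := by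
    rw [IsClosedImmersion.lift_fac_assoc]
  have hle : (⊤ : (Spec (CommRingCat.of R)).Opens) ≤ (q ≫ f) ⁻¹ᵁ W := fun z _ => by
    rw [hqf]
    exact hW.fromSpec_preimage_self.ge (Set.mem_univ (Spec.map (CommRingCat.ofHom φ) z))
  exact (ConcreteCategory.bijective_of_isIso (Scheme.ΓSpecIso (CommRingCat.of R)).inv).1
    (((appLE_of_fac_fromSpec hW φ hqf hle s).symm.trans (appLE_eq_zero_of_fac hl hle hs)).trans (map_zero _).symm)

/-- On a chart where the centre is generated by `t` such a function is divisible by `t ^ r`. -/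
theorem mem_span_of_chart {W : X.Opens} (hW : IsAffineOpen W) (r : ℕ) {s : Γ(X, W)}
    (hs : (BlowUp.exceptional f 𝓘 ^ r).subschemeι.app (f ⁻¹ᵁ W) (f.app W s) = 0)
    {B : Type u} [CommRing B] (β : Γ(X, W) →+* B) (t : B) (hβ : (𝓘.ideal ⟨W, hW⟩).map β = Ideal.span {t})
    {h : Spec (CommRingCat.of B) ⟶ Y} (hh : h ≫ f = Spec.map (CommRingCat.ofHom β) ≫ hW.fromSpec) :
    β s ∈ Ideal.span {t ^ r} := by
  let Q : Ideal B := Ideal.span {t ^ r}
  let mk : B →+* B ⧸ Q := Ideal.Quotient.mk Q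
  have hqf : (Spec.map (CommRingCat.ofHom mk) ≫ h) ≫ f =
      Spec.map (CommRingCat.ofHom (mk.comp β)) ≫ hW.fromSpec := by
    rw [Category.assoc, hh, ← Category.assoc, ← Spec.map_comp]
    rfl
  have hnil : (𝓘.ideal ⟨W, hW⟩).map (mk.comp β) ^ r = ⊥ := by
    rw [← Ideal.map_map, ← Ideal.map_pow, hβ, Ideal.span_singleton_pow]
    exact Ideal.map_quotient_self Q
  exact Ideal.Quotient.eq_zero_iff_mem.1 (eq_zero_of_test hW r hs _ hnil hqf)

/-- A function vanishing on the `r`-th thickening of the exceptional divisor lies in `𝓘 ^ r`. -/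
theorem mem_pow_of_vanish (hb : BlowUp.IsBlowUp f 𝓘) {W : X.Opens} (hW : IsAffineOpen W) {c : ℕ}
    (g : Fin (c + 1) → Γ(X, W)) (hI : 𝓘.ideal ⟨W, hW⟩ = Ideal.span (Set.range g)) (hg : CAlgX.IsQuasiRegular g)
    (r : ℕ) (s : Γ(X, W))
    (hs : (BlowUp.exceptional f 𝓘 ^ r).subschemeι.app (f ⁻¹ᵁ W) (f.app W s) = 0) :
    s ∈ (𝓘 ^ r).ideal ⟨W, hW⟩ := by
  let I : Ideal Γ(X, W) := 𝓘.ideal ⟨W, hW⟩
  let a : I := ⟨g 0, hI.ge (Ideal.subset_span ⟨0, rfl⟩)⟩
  have heff : BlowUp.IsEffCartierIdeal (𝓘.comap (π I ≫ hW.fromSpec)) := by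
    rw [Scheme.IdealSheafData.comap_comp, comap_fromSpec 𝓘 hW]
    exact isEff_π I
  obtain ⟨h, hh, -⟩ := hb.2 _ (π I ≫ hW.fromSpec) heff
  let al : Γ(X, W) →+* Alg I a := algebraMap Γ(X, W) (Alg I a)
  have hhc : (H26Blow.j I a ≫ h) ≫ f = Spec.map (CommRingCat.ofHom al) ≫ hW.fromSpec := by
    rw [Category.assoc, hh, ← Category.assoc, j_π]
  have h2 := mem_span_of_chart hW r hs al (al (a : Γ(X, W))) (map_eq_span I a) hhc
  obtain ⟨N, hN⟩ := exists_pow_mul_mem I a r h2
  rw [Scheme.IdealSheafData.ideal_pow, Pi.pow_apply, hI]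
  exact mem_pow_of_pow_mul_mem g hg 0 N r (by rw [← hI]; exact hN)

end Groth.Agent.H27BlowPow
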