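import Groth.Agent.H27BlowPow.Chart
import Groth.Agent.H11Blow.Main
import Groth.Agent.H11PicBlow.Main
import Groth.Agent.H10Coh.SheafHom.EndInvertible
import Groth.Agent.H27Mul.GGEventually

/-!
# Direct images of the powers of the exceptional ideal of a blow-up
-/

set_option autoImplicit false
set_option linter.style.haveILetI false
set_option linter.unusedSectionVars false
set_option backward.isDefEq.respectTransparency.types false

noncomputable section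

universe u

open CategoryTheory CategoryTheory.Limits AlgebraicGeometry TopologicalSpace Opposite
open Groth.Agent.H10Coh Groth.Agent.H11Ample Groth.Agent.H11Tilde

namespace Groth.Agent.H27BlowPow

variable {S X Y : Scheme.{u}} {σ : X ⟶ Y}

/-- The powers of the exceptional ideal have no higher cohomology over good opens. -/
theorem subsingleton_tensorPow {𝓘 : Y.IdealSheafData} (hb : BlowUp.IsBlowUp σ 𝓘) [IsNoetherian Y] [IsProper σ]
    {n : ℕ} {W : Y.Opens} (hG : H11Blow.GoodOpen 𝓘 n W) (k p : ℕ) (hp : 1 ≤ p) :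
    Subsingleton (HnM (CohB1.tensorPow (ClSub.idealMod (BlowUp.exceptional σ 𝓘)) k) p (σ ⁻¹ᵁ W)) := by
  haveI : IsLocallyNoetherian X := LocallyOfFiniteType.isLocallyNoetherian σ
  let E := BlowUp.exceptional σ 𝓘
  have hJ := H29Blow.isInvertible_of_isEffCartierIdeal _ hb.1
  obtain ⟨k₀, hk₀⟩ := Tw.exists_vanishing_relAmple σ hJ (fun _ hV => H11Blow.isAmple_restrict hb hV)
    (Coh.structureModule X) (H10Coh.isCoh_structureModule' X) hG.choose
  suffices key : ∀ t k : ℕ, k₀ ≤ k + t → ∀ q, 1 ≤ q →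
      Subsingleton (HnM (CohB1.tensorPow (ClSub.idealMod E) k) q (σ ⁻¹ᵁ W)) from key k₀ k (by omega) p hp
  intro t
  induction t with
  | zero => exact fun k hk q hq => Tw.subsingleton_of_iso (Tw.leftUnitIso _) (hk₀ k hk q hq)
  | succ t ih =>
    intro k hk q hq
    obtain ⟨T, hT, ⟨e₁⟩, ⟨e₂⟩, ⟨e₃⟩⟩ := H11Blow.exists_seq E (isInvertible_tensorPow hJ k)
    have h1 : Subsingleton (HnM T.X₁ q (σ ⁻¹ᵁ W)) :=
      Tw.subsingleton_of_iso ((Tw.commIso _ _) ≪≫ e₁.symm) (ih (k + 1) (by omega) q hq)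
    have h3 : Subsingleton (HnM T.X₃ q (σ ⁻¹ᵁ W)) :=
      Tw.subsingleton_of_iso e₃.symm (H11Blow.subsingleton_exc_pow hb hG k q hq)
    exact Tw.subsingleton_of_iso e₂ (Tw.subsingleton_X₂ (shortExact_sh hT) h1 h3)

/-- Twisting by a pullback does not matter where the module is trivial. -/
theorem subsingleton_twist {T : X.Modules} (hT : PicF.IsInvertible T) {N : Y.Modules} (hN : PicF.IsInvertible N)
    {U W : Y.Opens} (hWU : W ≤ U) (e : N.restrict U.ι ≅ Coh.structureModule U.toScheme) {p : ℕ}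
    (h : Subsingleton (HnM T p (σ ⁻¹ᵁ W))) :
    Subsingleton (HnM (CohB1.tensorMod T ((Scheme.Modules.pullback σ).obj N)) p (σ ⁻¹ᵁ W)) := by
  let O := σ ⁻¹ᵁ U
  have himg : O.ι ''ᵁ (O.ι ⁻¹ᵁ (σ ⁻¹ᵁ W)) = σ ⁻¹ᵁ W := by
    rw [Scheme.Hom.image_preimage_eq_opensRange_inf, Scheme.Opens.opensRange_ι,
      inf_eq_right.2 (σ.preimage_mono hWU)]
  refine subsingleton_HnM_image O.ι _ p (O.ι ⁻¹ᵁ (σ ⁻¹ᵁ W)) _ himg ?_
  obtain ⟨e₁⟩ := H11PicBlow.nonempty_restrict_tensor O hT (isInvertible_pullback σ hN)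
  obtain ⟨u⟩ := nonempty_pullback_structureModule_iso (σ ∣_ U)
  refine Tw.subsingleton_of_iso (e₁ ≪≫ PicGrp.tensorModIso (Iso.refl _)
    ((H16Derived.KFlat.Stalk.pullbackRestrictIso σ U).app N ≪≫
      (Scheme.Modules.pullback (σ ∣_ U)).mapIso e ≪≫ u) ≪≫ Tw.rightUnitIso _).symm ?_
  haveI : Subsingleton (HnM T p (O.ι ''ᵁ (O.ι ⁻¹ᵁ (σ ⁻¹ᵁ W)))) := himg.symm ▸ h
  exact (restrEquivM O.ι T p _).symm.toEquiv.subsingleton

/-- Good opens on which an invertible module is trivial form a basis. -/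
theorem isBasis_good [IsLocallyNoetherian Y] (i : S ⟶ Y) [IsClosedImmersion i] (n : ℕ)
    (hi : RegImm.IsRegularImmersionOfCodim .regular (n + 1) i) {N : Y.Modules} (hN : PicF.IsInvertible N) :
    Opens.IsBasis {W : Y.Opens | H11Blow.GoodOpen i.ker n W ∧ ∃ U : Y.Opens, W ≤ U ∧
      Nonempty (N.restrict U.ι ≅ Coh.structureModule U.toScheme)} :=
  Opens.isBasis_iff_nbhd.2 fun {O x} hx => by
    obtain ⟨U, hxU, he⟩ := hN x
    obtain ⟨W, hW, hxW, hle⟩ := H11Blow.exists_good i n hi (show x ∈ O ⊓ U from ⟨hx, hxU⟩)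
    exact ⟨W, ⟨hW, U, hle.trans inf_le_right, he⟩, hxW, hle.trans inf_le_left⟩

theorem subsingleton_pow_twist [IsNoetherian Y] (i : S ⟶ Y) [IsClosedImmersion i] {n : ℕ}
    (hb : BlowUp.IsBlowUp σ i.ker) [IsProper σ] {N : Y.Modules} (hN : PicF.IsInvertible N) (r : ℕ) {W : Y.Opens}
    (hW : H11Blow.GoodOpen i.ker n W ∧ ∃ U : Y.Opens, W ≤ U ∧
      Nonempty (N.restrict U.ι ≅ Coh.structureModule U.toScheme)) {p : ℕ} (hp : 1 ≤ p) :
    Subsingleton (HnM (CohB1.tensorMod (ClSub.idealMod (BlowUp.exceptional σ i.ker ^ r))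
      ((Scheme.Modules.pullback σ).obj N)) p (σ ⁻¹ᵁ W)) := by
  obtain ⟨hG, U, hWU, ⟨e⟩⟩ := hW
  obtain ⟨hc, ⟨e'⟩⟩ := H11Blow.idealMod_pow hb.1 r
  exact subsingleton_twist (H29Blow.isInvertible_of_isEffCartierIdeal _ hc) hN hWU e
    (Tw.subsingleton_of_iso e'.symm (subsingleton_tensorPow hb hG r p hp))

theorem subschemeι_app_appLE_eq_zero (σ : X ⟶ Y) (𝓘 : Y.IdealSheafData) (r : ℕ) (U : Y.affineOpens)
    (U' : X.affineOpens) (hle : U'.1 ≤ σ ⁻¹ᵁ U.1) {s : Γ(Y, U.1)} (hs : s ∈ (𝓘 ^ r).ideal U) :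
    (BlowUp.exceptional σ 𝓘 ^ r).subschemeι.app U'.1 (σ.appLE U.1 U'.1 hle s) = 0 := by
  have h1 : σ.appLE U.1 U'.1 hle s ∈ (BlowUp.exceptional σ 𝓘 ^ r).ideal U' := by
    show _ ∈ ((𝓘.comap σ) ^ r).ideal U'
    rw [← H11Strict.comap_pow, H29Blow.ideal_comap _ σ U U' hle]
    exact Ideal.mem_map_of_mem _ hs
  rwa [← (BlowUp.exceptional σ 𝓘 ^ r).ker_subschemeι_app U', RingHom.mem_ker] at h1

theorem res_app_eq_appLE (σ : X ⟶ Y) {U V : Y.Opens} {U' : X.Opens} (hUV : U ≤ V) (hle : U' ≤ σ ⁻¹ᵁ U)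
    (z : Γ(Y, V)) : X.presheaf.map (homOfLE (hle.trans (σ.preimage_mono hUV))).op (σ.app V z) =
      σ.appLE U U' hle (Y.presheaf.map (homOfLE hUV).op z) := by
  show (σ.app V ≫ X.presheaf.map _) z = (Y.presheaf.map _ ≫ σ.appLE U U' hle) z
  rw [Scheme.Hom.map_appLE]
  rfl

theorem pow_comp_eq_zero (σ : X ⟶ Y) (𝓘 : Y.IdealSheafData) (r : ℕ) :
    (ClSub.idealModι (𝓘 ^ r) ≫ ClSub.unitToPush σ) ≫
      (Scheme.Modules.pushforward σ).map (ClSub.toSubscheme (BlowUp.exceptional σ 𝓘 ^ r)) = 0 := by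
  refine Scheme.Modules.hom_ext _ _ fun V => ?_
  ext m
  show (ClSub.toSubscheme (BlowUp.exceptional σ 𝓘 ^ r)).app (σ ⁻¹ᵁ V)
    (show Γ(Coh.structureModule X, σ ⁻¹ᵁ V) from σ.app V (OmegaSh.idealSect (𝓘 ^ r) V m)) = 0
  refine eq_of_locally _ _ fun x hx => ?_
  obtain ⟨U, hU, hxU, (hUV : U ≤ V)⟩ := exists_isAffineOpen_mem_and_subset (U := V) (x := σ x) hx
  obtain ⟨U', hU', hxU', (hU'U : U' ≤ σ ⁻¹ᵁ U)⟩ :=
    exists_isAffineOpen_mem_and_subset (U := σ ⁻¹ᵁ U) (x := x) hxU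
  refine ⟨U', hU'U.trans (σ.preimage_mono hUV), hxU', ?_⟩
  rw [← app_map_apply, map_zero]
  have h := subschemeι_app_appLE_eq_zero σ 𝓘 r ⟨U, hU⟩ ⟨U', hU'⟩ hU'U
    ((H29Blow.mem_ideal_iff_exists_idealSect _ hU _).2 ⟨_, H29Blow.idealSect_res (𝓘 ^ r) hUV m⟩)
  rw [← res_app_eq_appLE σ hUV hU'U] at h
  exact h

/-- Powers of the centre map to direct images of powers of the exceptional ideal. -/
def powToPush (σ : X ⟶ Y) (𝓘 : Y.IdealSheafData) (r : ℕ) :
    ClSub.idealMod (𝓘 ^ r) ⟶ (Scheme.Modules.pushforward σ).obj (ClSub.idealMod (BlowUp.exceptional σ 𝓘 ^ r)) :=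
  haveI : (Scheme.Modules.pushforward σ).IsRightAdjoint :=
    (Scheme.Modules.pullbackPushforwardAdjunction σ).isRightAdjoint
  kernel.lift _ _ (pow_comp_eq_zero σ 𝓘 r) ≫
    (PreservesKernel.iso (Scheme.Modules.pushforward σ) (ClSub.toSubscheme (BlowUp.exceptional σ 𝓘 ^ r))).inv

theorem idealSect_powToPush (σ : X ⟶ Y) (𝓘 : Y.IdealSheafData) (r : ℕ) (V : Y.Opens)
    (m : Γ(ClSub.idealMod (𝓘 ^ r), V)) :
    OmegaSh.idealSect (BlowUp.exceptional σ 𝓘 ^ r) (σ ⁻¹ᵁ V) ((powToPush σ 𝓘 r).app V m) =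
      σ.app V (OmegaSh.idealSect (𝓘 ^ r) V m) := by
  haveI : (Scheme.Modules.pushforward σ).IsRightAdjoint :=
    (Scheme.Modules.pullbackPushforwardAdjunction σ).isRightAdjoint
  have h : powToPush σ 𝓘 r ≫ (Scheme.Modules.pushforward σ).map (ClSub.idealModι (BlowUp.exceptional σ 𝓘 ^ r)) =
      ClSub.idealModι (𝓘 ^ r) ≫ ClSub.unitToPush σ := by
    rw [powToPush, Category.assoc]
    erw [PreservesKernel.iso_inv_ι]
    exact kernel.lift_ι _ _ _
  exact congr(($h).app V m)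

attribute [irreducible] powToPush

theorem subschemeι_app_idealSect (E : X.IdealSheafData) (V : X.Opens) (m : Γ(ClSub.idealMod E, V)) :
    E.subschemeι.app V (OmegaSh.idealSect E V m) = 0 :=
  congr(($(kernel.condition (ClSub.toSubscheme E))).app V m)

theorem exists_mem_of_idealSect {𝓘 : Y.IdealSheafData} (hb : BlowUp.IsBlowUp σ 𝓘) {n : ℕ} {W : Y.Opens}
    (hG : H11Blow.GoodOpen 𝓘 n W) (r : ℕ) (s : Γ(Y, W))
    (m : Γ(ClSub.idealMod (BlowUp.exceptional σ 𝓘 ^ r), σ ⁻¹ᵁ W))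
    (hs : σ.app W s = OmegaSh.idealSect (BlowUp.exceptional σ 𝓘 ^ r) (σ ⁻¹ᵁ W) m) :
    ∃ m', OmegaSh.idealSect (𝓘 ^ r) W m' = s := by
  obtain ⟨hWa, g, hI, hg⟩ := hG
  have hz : (BlowUp.exceptional σ 𝓘 ^ r).subschemeι.app (σ ⁻¹ᵁ W) (σ.app W s) = 0 := by
    rw [hs]; exact subschemeι_app_idealSect _ _ m
  exact (H29Blow.mem_ideal_iff_exists_idealSect _ hWa s).1 (mem_pow_of_vanish hb hWa g hI hg r s hz)

theorem bijective_of_square {A B C D : Type u} (ι₁ : A → C) (ι₂ : B → D) (φ : A → B) (ψ : C → D)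
    (hsq : ∀ a, ι₂ (φ a) = ψ (ι₁ a)) (h₁ : Function.Injective ι₁) (h₂ : Function.Injective ι₂)
    (hψ : Function.Bijective ψ) (h : ∀ c b, ψ c = ι₂ b → ∃ a, ι₁ a = c) : Function.Bijective φ := by
  refine ⟨fun a b e => h₁ (hψ.1 ((hsq a).symm.trans ((congrArg ι₂ e).trans (hsq b)))), fun b => ?_⟩
  obtain ⟨c, hc⟩ := hψ.2 (ι₂ b)
  obtain ⟨a, ha⟩ := h c b hc
  exact ⟨a, h₂ ((hsq a).trans ((congrArg ψ ha).trans hc))⟩

/-- The direct image of the `r`-th power of the exceptional ideal is the `r`-th power of the centre. -/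
theorem isIso_powToPush [IsLocallyNoetherian Y] (hreg : ∀ y : Y, IsRegularLocalRing (Y.presheaf.stalk y))
    (i : S ⟶ Y) [IsClosedImmersion i] (n : ℕ) (hi : RegImm.IsRegularImmersionOfCodim .regular (n + 1) i)
    (hb : BlowUp.IsBlowUp σ i.ker) [IsProper σ] (r : ℕ) : IsIso (powToPush σ i.ker r) := by
  refine H10Coh.SheafHom.isIso_of_bijective_basis _ (fun W => H11Blow.Nice i.ker n W)
    (fun O x hx => H11Blow.exists_nice hreg i n hi hx) fun W hW => ?_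
  exact bijective_of_square (OmegaSh.idealSect (i.ker ^ r) W)
    (OmegaSh.idealSect (BlowUp.exceptional σ i.ker ^ r) (σ ⁻¹ᵁ W)) ((powToPush σ i.ker r).app W) (σ.app W)
    (idealSect_powToPush σ i.ker r W) (H29Blow.idealSect_injective _ W) (H29Blow.idealSect_injective _ _)
    (H11Blow.bijective_app_nice hb hW hreg le_rfl) fun c b hc => exists_mem_of_idealSect hb hW.1 r c b hc

/-- The projection formula for the powers of the exceptional ideal. -/
theorem nonempty_push_pow [IsLocallyNoetherian Y] (hreg : ∀ y : Y, IsRegularLocalRing (Y.presheaf.stalk y))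
    (i : S ⟶ Y) [IsClosedImmersion i] (n : ℕ) (hi : RegImm.IsRegularImmersionOfCodim .regular (n + 1) i)
    (hb : BlowUp.IsBlowUp σ i.ker) [IsProper σ] (r : ℕ) {N : Y.Modules} (hN : PicF.IsInvertible N) :
    Nonempty (CohB1.tensorMod (ClSub.idealMod (i.ker ^ r)) N ≅ (Coh.push σ).obj
      (CohB1.tensorMod (ClSub.idealMod (BlowUp.exceptional σ i.ker ^ r)) ((Scheme.Modules.pullback σ).obj N))) := by
  haveI := isIso_powToPush hreg i n hi hb r
  haveI := H27Mul.isIso_proj σ (ClSub.idealMod (BlowUp.exceptional σ i.ker ^ r)) N hN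
  exact ⟨PicGrp.tensorModIso (asIso (powToPush σ i.ker r)) (Iso.refl N) ≪≫
    asIso (tensorDesc (H27Mul.projPairing σ (ClSub.idealMod (BlowUp.exceptional σ i.ker ^ r)) N))⟩

end Groth.Agent.H27BlowPow
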